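import Cfsg.Agent.Lib.Helper4.Orb.U62.Mats

set_option autoImplicit false
set_option linter.unusedVariables false
set_option linter.style.haveILetI false
set_option Elab.async false

namespace Cfsg.Agent.Helper4.CO.U62

open Cfsg Cfsg.Agent.Helper4.CO Cfsg.Agent.Helper4.TC

set_option maxRecDepth 1000000 in
theorem hinv' : ∀ x ∈ allGen, ∀ l ∈ basisL, actL (D x) (actL (D x) l) = l := by decide +kernel

theorem hinv : ∀ x, ∀ l ∈ basisL, actL (D x) (actL (D x) l) = l := fun x => hinv' x (mem_allGen x)

set_option maxRecDepth 1000000 in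
theorem hfix0' : ∀ x ∈ allGen, actL (D x) C2.anc0 = C2.anc0 := by decide +kernel

set_option maxRecDepth 1000000 in
theorem hfix1' : ∀ x ∈ allGen, actL (D x) C2.startA = C2.startA := by decide +kernel

theorem hfix0 (x : UG) : actL (D x) C2.anc0 = C2.anc0 := hfix0' x (mem_allGen x)

theorem hfix1 (x : UG) : actL (D x) C2.startA = C2.startA := hfix1' x (mem_allGen x)

set_option maxRecDepth 1000000 in
theorem hmove : ∃ l ∈ basisL, actL (D .c) l ≠ l := by decide +kernel

end Cfsg.Agent.Helper4.CO.U62
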