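import Cfsg.Agent.Lib.Helper4.Orb.U62.Mats

set_option autoImplicit false
set_option linter.unusedVariables false
set_option linter.style.haveILetI false
set_option Elab.async false

namespace Cfsg.Agent.Helper4.CO.U62

open Cfsg Cfsg.Agent.Helper4.CO Cfsg.Agent.Helper4.TC

set_option maxRecDepth 1000000 in
theorem hchkB : ∀ b ∈ (U62QPc.bases.drop 32).take 32, ∀ l ∈ basisL, runW D (b.map U62QPc.dec) l = l := by
  decide +kernel

end Cfsg.Agent.Helper4.CO.U62
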