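import Cfsg.Agent.Lib.Helper4.Orb.U62.ChkA
import Cfsg.Agent.Lib.Helper4.Orb.U62.ChkB
import Cfsg.Agent.Lib.Helper4.Orb.U62.ChkC
import Cfsg.Agent.Lib.Helper4.Orb.U62.ChkD
import Cfsg.Agent.Lib.Helper4.Orb.U62.ChkE
import Cfsg.Agent.Lib.Helper4.Orb.U62.Chk1

set_option autoImplicit false
set_option linter.unusedVariables false
set_option linter.style.haveILetI false
set_option Elab.async false

namespace Cfsg.Agent.Helper4.CO.U62

open Cfsg Cfsg.Agent.Helper4.CO Cfsg.Agent.Helper4.TC

theorem mem_split {β : Type} (l : List β) (n : ℕ) (b : β) (hb : b ∈ l) : b ∈ l.take n ∨ b ∈ l.drop n := by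
  rw [← List.take_append_drop n l] at hb
  exact List.mem_append.mp hb

theorem hchk : ∀ b ∈ U62QPc.bases, ∀ l ∈ basisL, runW D (b.map U62QPc.dec) l = l := by
  intro b hb
  have h0 : b ∈ U62QPc.bases.drop 0 := hb
  rcases mem_split _ 32 b h0 with h | h1
  · exact hchkA b h
  rw [List.drop_drop] at h1
  rcases mem_split _ 32 b h1 with h | h2
  · exact hchkB b h
  rw [List.drop_drop] at h2
  rcases mem_split _ 2 b h2 with h | h3
  · exact hchkC b h
  rw [List.drop_drop] at h3
  rcases mem_split _ 1 b h3 with h | h4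
  · exact hchkD b h
  rw [List.drop_drop] at h4
  exact hchkE b (by rw [List.take_of_length_le (by decide)]; exact h4)

end Cfsg.Agent.Helper4.CO.U62
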