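import Cfsg.Agent.Lib.Helper4.Orb.U62.Chk
import Cfsg.Agent.Lib.Helper4.Orb.GrpCo0
import Cfsg.Agent.Lib.Helper4.TC.U62Iso
import Cfsg.Agent.Lib.Helper4.TC.U42Iso

set_option autoImplicit false
set_option linter.unusedVariables false
set_option linter.unusedSectionVars false
set_option linter.style.haveILetI false

/-! The joint stabiliser of two minimal vectors of the rank-24 lattice with coordinate dot
product `-16` is isomorphic to `PSU₆(2)`. -/

namespace Cfsg.Agent.Helper4.CO.U62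

open Cfsg Cfsg.Agent.Helper4.CO Cfsg.Agent.Helper4.TC MulAction

/-- the base vectors -/
def V0 : leechLattice := mkL C2.anc0 C2.anc0_in

/-- the base vectors -/
def W0 : leechLattice := mkL C2.startA C2.startA_in

theorem V0_norm : sqNorm (V0 : GolayPt → ℤ) = 32 := by
  show sqNorm (toV C2.anc0) = 32
  rw [sqNorm_toV _ C2.anc0_in.1]; decide

theorem W0_norm : sqNorm (W0 : GolayPt → ℤ) = 32 := by
  show sqNorm (toV C2.startA) = 32
  rw [sqNorm_toV _ C2.startA_in.1]; decide

theorem V0_W0_dot : dotInt (V0 : GolayPt → ℤ) (W0 : GolayPt → ℤ) = -16 := by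
  show dotInt (toV C2.anc0) (toV C2.startA) = -16
  rw [dotInt_toV _ _ C2.anc0_in.1 C2.startA_in.1]; decide

theorem coOf_fix0 (x : UG) : coOf D hgood x • V0 = V0 := by
  apply Subtype.ext
  rw [coOf_smul D hgood x C2.anc0 C2.anc0_in.1 V0 rfl, hfix0 x]
  rfl

theorem coOf_fix1 (x : UG) : coOf D hgood x • W0 = W0 := by
  apply Subtype.ext
  rw [coOf_smul D hgood x C2.startA C2.startA_in.1 W0 rfl, hfix1 x]
  rfl

theorem coOf_c_ne_one : coOf D hgood .c ≠ 1 := by
  obtain ⟨l, hl, hne⟩ := hmove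
  intro h1
  apply hne
  have hin := basisL_in l hl
  have h2 := coOf_smul D hgood .c l (basisL_length l hl) (mkL l hin) rfl
  rw [h1, one_smul] at h2
  have h3 : toV (actL (D .c) l) = toV l := h2.symm
  have hlen : (actL (D .c) l).length = 24 := actL_len D hgood .c l
  apply List.ext_getElem (by rw [hlen, basisL_length l hl])
  intro n h4 h5
  have hn : n < 24 := by rw [hlen] at h4; exact h4
  have h6 := congrFun h3 (Cfsg.Agent.Lib.Helper4.pt ⟨n, hn⟩)
  rw [toV_pt, toV_pt, List.getD_eq_getElem _ _ h4, List.getD_eq_getElem _ _ h5] at h6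
  exact h6

/-- the order of the joint stabiliser -/
theorem card_stab (v w : leechLattice) (hv : sqNorm (v : GolayPt → ℤ) = 32)
    (hw : sqNorm (w : GolayPt → ℤ) = 32)
    (hd : dotInt (v : GolayPt → ℤ) (w : GolayPt → ℤ) = -16) :
    Nat.card ↥(stabilizer Co0 v ⊓ stabilizer Co0 w) = 9196830720 := by
  set S : Subgroup Co0 := stabilizer Co0 v with hS
  have hSmem : ∀ g : Co0, g ∈ S ↔ (g • v = v ∧ g • (0 : leechLattice) = 0 ∧
      g • (0 : leechLattice) = 0) := by
    intro g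
    rw [hS, mem_stabilizer_iff]
    simp only [co0_smul_zero, and_true]
  have hwA : w ∈ dotSet 32 v 0 0 (-16, 0, 0) := mem_dotSet_zero23.mpr ⟨hw, hd⟩
  have horb : orbit ↥S w = dotSet 32 v 0 0 (-16, 0, 0) :=
    orbit_eq_dotSet S hSmem
      (fun y hy y' hy' => by
        have h1 := mem_dotSet_zero23.mp hy
        have h2 := mem_dotSet_zero23.mp hy'
        obtain ⟨g, g1, g2⟩ := C2.main_trans (-16) C2.transA v y y' hv h1.1 h2.1 h1.2 h2.2
        exact ⟨g, g1, co0_smul_zero g, co0_smul_zero g, g2⟩) hwA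
  have h1 := card_eq_orbit_mul S w
  rw [horb, Grp.card_A v hv, (Grp.co2_simpCard v hv).2] at h1
  omega

/-- moving a pair of minimal vectors to the base pair -/
theorem exists_conj (v w : leechLattice) (hv : sqNorm (v : GolayPt → ℤ) = 32)
    (hw : sqNorm (w : GolayPt → ℤ) = 32)
    (hd : dotInt (v : GolayPt → ℤ) (w : GolayPt → ℤ) = -16) :
    ∃ k : Co0, k • v = V0 ∧ k • w = W0 := by
  obtain ⟨h, hc, hz1, hz2⟩ := C2.exists_base v hv
  have hmem : h • w ∈ statSet 32 C2.anc0 C2.anc1 C2.anc2 (-16, 0, 0) :=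
    smul_mem_statSet h 32 C2.anc0 C2.anc1 C2.anc2 (-16, 0, 0) v 0 0 w hc hz1 hz2 hw hd
      (C2.coe_zero_dot w) (C2.coe_zero_dot w)
  have hW0 : W0 ∈ statSet 32 C2.anc0 C2.anc1 C2.anc2 (-16, 0, 0) :=
    mem_statSet_mkL 32 C2.anc0 C2.anc1 C2.anc2 (-16, 0, 0) C2.anc0_in.1 C2.anc1_in.1 C2.anc2_in.1
      C2.startA C2.startA_in (by decide) (by decide)
  obtain ⟨g, hg, hgw⟩ := C2.transA (h • w) hmem W0 hW0
  have hg0 : g • (h • v) = h • v := hg C2.anc0 (by simp [C2.anchors]) (h • v) hc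
  refine ⟨g * h, ?_, ?_⟩
  · rw [mul_smul, hg0]
    exact Subtype.ext hc
  · rw [mul_smul, hgw]

/-- the isomorphism for the base pair -/
theorem iso_base : Nonempty (PresentedGroup U62QS.Rset ≃* ↥(stabilizer Co0 V0 ⊓ stabilizer Co0 W0)) := by
  haveI : IsSimpleGroup (PresentedGroup U62QS.Rset) := U62QS.main.1
  haveI : Finite (PresentedGroup U62QS.Rset) := U62QS.card_top.1
  obtain ⟨φ, hφ⟩ := exists_hom_co0 D hgood hinv U62QS.Rset U62QPc.dec U62QPc.bases U62QPc.hR1 hchk
  set S : Subgroup Co0 := stabilizer Co0 V0 ⊓ stabilizer Co0 W0 with hS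
  have hmem : ∀ y, φ y ∈ S := by
    have hle : Subgroup.closure (Set.range (PresentedGroup.of (rels := U62QS.Rset))) ≤ S.comap φ := by
      rw [Subgroup.closure_le]
      rintro _ ⟨x, rfl⟩
      show φ (PresentedGroup.of x) ∈ S
      rw [hφ, hS, Subgroup.mem_inf, mem_stabilizer_iff, mem_stabilizer_iff]
      exact ⟨coOf_fix0 x, coOf_fix1 x⟩
    rw [PresentedGroup.closure_range_of] at hle
    intro y
    exact hle (Subgroup.mem_top y)
  let φ' : PresentedGroup U62QS.Rset →* ↥S := φ.codRestrict S hmem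
  have hne : φ' (PresentedGroup.of .c) ≠ 1 := by
    intro h
    have h2 := congrArg Subtype.val h
    have h3 : φ (PresentedGroup.of .c) = 1 := h2
    rw [hφ] at h3
    exact coOf_c_ne_one h3
  have hinj : Function.Injective φ' := by
    rw [← MonoidHom.ker_eq_bot_iff]
    rcases IsSimpleGroup.eq_bot_or_eq_top_of_normal φ'.ker inferInstance with h | h
    · exact h
    · exfalso
      apply hne
      have : PresentedGroup.of .c ∈ φ'.ker := by rw [h]; trivial
      exact this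
  have hcard : Nat.card ↥S = 9196830720 := card_stab V0 W0 V0_norm W0_norm V0_W0_dot
  haveI : Finite ↥S := Nat.finite_of_card_ne_zero (by rw [hcard]; norm_num)
  have hbij : Function.Bijective φ' := by
    rw [Nat.bijective_iff_injective_and_card]
    exact ⟨hinj, U62QS.main.2.trans hcard.symm⟩
  exact ⟨MulEquiv.ofBijective φ' hbij⟩

theorem main (v w : leechLattice) (hv : sqNorm (v : GolayPt → ℤ) = 32)
    (hw : sqNorm (w : GolayPt → ℤ) = 32)
    (hd : dotInt (v : GolayPt → ℤ) (w : GolayPt → ℤ) = -16)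
    (F : Type) [Field F] [Fintype F] (hF : Fintype.card F = 4) :
    Nonempty (↥(stabilizer ↥Co0 v ⊓ stabilizer ↥Co0 w) ≃* Cfsg.PSU 6 F 2) := by
  obtain ⟨k, hk1, hk2⟩ := exists_conj v w hv hw hd
  have e1 := conjStab2 k v w
  rw [hk1, hk2] at e1
  obtain ⟨e2⟩ := iso_base
  obtain ⟨e3⟩ := U62Iso.iso
  obtain ⟨eF⟩ := U42Iso.exists_ringEquiv_k4 hF
  have f1 : Cfsg.PSU 6 F 2 ≃* U62Iso.PSU6 := Cfsg.Agent.Lib.Helper6.SUTransport.psuEquiv eF
  exact ⟨((e1.trans e2.symm).trans e3).trans f1.symm⟩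

end Cfsg.Agent.Helper4.CO.U62
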